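import Cfsg.Agent.Helper77.Br43.PGDefs
import Cfsg.Agent.Helper17.SylowKit

/-!
# Theorem PG (S0996), package W10: arithmetic, `|G|`, and the cyclic-subgroup lemma (PG6a, PG6b, PG8a).
-/

set_option autoImplicit false

namespace Cfsg.Agent.Helper17.BrPG

open Cfsg.Agent.Helper77.BrPG

open scoped Pointwise

universe u

variable {G : Type u} [Group G] [Finite G] {p : ℕ} [Fact p.Prime]

/-- (PG6a) Lagrange for `N_G(E)` and the counting relations give `a = 1` and `e` even -/
theorem arith_a_eq_one (p e n a t k : ℕ) (hp : p.Prime) (hodd : p ≠ 2)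
    (hdvd : (n + 1) * e ∣ p * e * (1 + n * p)) (hat : a * t = n + 1) (hte : t * e = p - 1)
    (hek : e = 1 + a * (1 + t * k)) : a = 1 ∧ Even e := by
  have hp2 : 2 ≤ p := hp.two_le
  have he1 : 1 ≤ e := by omega
  have ha1 : 1 ≤ a := by
    rcases Nat.eq_zero_or_pos a with h | h
    · rw [h] at hat; omega
    · exact h
  have ht1 : 1 ≤ t := by
    rcases Nat.eq_zero_or_pos t with h | h
    · rw [h] at hat; omega
    · exact h
  -- cancel `e`
  have hdvd' : (n + 1) ∣ p * (1 + n * p) := by
    have h1 : (n + 1) * e ∣ (p * (1 + n * p)) * e := by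
      have : p * e * (1 + n * p) = (p * (1 + n * p)) * e := by ring
      rw [← this]; exact hdvd
    exact (Nat.mul_dvd_mul_iff_right (by omega)).mp h1
  -- `n + 1 < p`
  have hae : a + 1 ≤ e := by
    have : a * (1 + t * k) ≥ a * 1 := Nat.mul_le_mul_left a (by omega)
    omega
  have hlt : n + 1 < p := by
    have h1 : a * t + t ≤ e * t := by
      have : (a + 1) * t ≤ e * t := Nat.mul_le_mul_right t hae
      linarith [this, add_mul a 1 t]
    have h2 : e * t = p - 1 := by rw [mul_comm]; exact hte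
    omega
  have hcop : Nat.Coprime (n + 1) p := by
    rw [Nat.coprime_comm]
    exact (Nat.Prime.coprime_iff_not_dvd hp).mpr (fun h => by
      have := Nat.le_of_dvd (by omega) h; omega)
  have hdvd1 : (n + 1) ∣ 1 + n * p := hcop.dvd_of_dvd_mul_left hdvd'
  -- `1 + n p = (n+1) p - (p - 1)`
  have hdvd2 : (n + 1) ∣ p - 1 := by
    have h1 : (n + 1) ∣ (n + 1) * p := dvd_mul_right _ _
    have h2 : (n + 1) * p = (1 + n * p) + (p - 1) := by
      have : (n + 1) * p = n * p + p := by ring
      omega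
    rw [h2] at h1
    exact (Nat.dvd_add_right hdvd1).mp h1
  have hadvd : a ∣ e := by
    rw [← hte, ← hat] at hdvd2
    have : t * a ∣ t * e := by rw [mul_comm t a]; exact hdvd2
    exact (Nat.mul_dvd_mul_iff_left (by omega)).mp this
  have ha : a = 1 := by
    have h1 : a ∣ a * (1 + t * k) := dvd_mul_right _ _
    have h2 : a ∣ 1 := by
      rw [hek] at hadvd
      exact (Nat.dvd_add_left h1).mp hadvd
    exact Nat.dvd_one.mp h2
  refine ⟨ha, ?_⟩
  subst ha
  by_contra hodd_e
  rw [Nat.not_even_iff_odd] at hodd_e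
  -- `e = 2 + t k` odd, so `t k` odd, `t` odd, `t e` odd, `p` even
  have htk : Odd (t * k) := by
    have : e = t * k + 2 := by omega
    rw [this] at hodd_e
    rcases Nat.even_or_odd (t * k) with h | h
    · exfalso
      have : Even (t * k + 2) := h.add (by decide)
      exact (Nat.not_even_iff_odd.mpr hodd_e) this
    · exact h
  have htodd : Odd t := (Nat.odd_mul.mp htk).1
  have hteodd : Odd (t * e) := htodd.mul hodd_e
  rw [hte] at hteodd
  have hpe : Even p := by
    rcases hteodd with ⟨m, hm⟩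
    exact ⟨m + 1, by omega⟩
  exact hodd ((Nat.Prime.even_iff hp).mp hpe)

/-- (PG6b) `|G| = p e (1 + n p)` -/
theorem IsBr.card_G {P : Sylow p G} {e n : ℕ} (h : IsBr P e n) :
    Nat.card G = p * e * (1 + n * p) := by
  have h1 := Cfsg.Agent.Helper17.card_normalizer_mul_card_sylow P
  rw [← h1, h.cardS]
  have : Nat.card (Subgroup.normalizer ((P : Subgroup G) : Set G)) = p * e := h.cardN
  rw [this]

/-- (PG8a) a group `L` with a cyclic subgroup `E` such that all elements of `L \ E` are involutions: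
`|L : E| ≤ 2` or `|E| ≤ 2`. -/
theorem index_le_two_or_card_le_two (L E : Subgroup G) (hEL : E ≤ L) (hcyc : IsCyclic E)
    (hinv : ∀ l ∈ L, l ∉ E → orderOf l = 2) :
    Nat.card L ≤ 2 * Nat.card E ∨ Nat.card E ≤ 2 := by
  classical
  by_cases hE2 : Nat.card E ≤ 2
  · exact Or.inr hE2
  left
  obtain ⟨y, hy⟩ := hcyc.exists_generator
  have hyE : (y : G) ∈ E := y.2
  -- every `l ∈ L \ E` inverts `y`
  have hsq : ∀ l ∈ L, l ∉ E → l * l = 1 := by
    intro l hl hlE
    have := hinv l hl hlE
    rw [← pow_two, ← this]; exact pow_orderOf_eq_one l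
  have hinvert : ∀ l ∈ L, l ∉ E → l * (y : G) * l⁻¹ = (y : G)⁻¹ := by
    intro l hl hlE
    have hly : l * (y : G) ∉ E := fun h => hlE (by
      have := E.mul_mem h (E.inv_mem hyE)
      simpa using this)
    have h1 := hsq l hl hlE
    have h2 := hsq (l * y) (L.mul_mem hl (hEL hyE)) hly
    have hlinv : l⁻¹ = l := by
      rw [inv_eq_iff_mul_eq_one]; exact h1
    rw [hlinv]
    -- l y l y = 1 → l y l = y⁻¹
    have : l * (y : G) * l * (y : G) = 1 := by rw [← h2]; group
    exact eq_inv_of_mul_eq_one_left this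
  -- `y² ≠ 1`
  have hy2 : (y : G) * (y : G) ≠ 1 := by
    intro h
    apply hE2
    have hord : orderOf y = Nat.card E := by
      rw [orderOf_eq_card_of_forall_mem_zpowers hy]
    rw [← hord]
    have hy' : y ^ 2 = 1 := by
      apply Subtype.ext
      rw [pow_two]
      exact h
    exact Nat.le_of_dvd (by norm_num) (orderOf_dvd_of_pow_eq_one hy')
  -- products of two elements of `L \ E` lie in `E`
  have hprod : ∀ l₁ ∈ L, l₁ ∉ E → ∀ l₂ ∈ L, l₂ ∉ E → l₁ * l₂ ∈ E := by
    intro l₁ h1 h1E l₂ h2 h2E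
    by_contra hne
    have ha := hinvert (l₁ * l₂) (L.mul_mem h1 h2) hne
    have hb : l₁ * l₂ * (y : G) * (l₁ * l₂)⁻¹ = (y : G) := by
      have e2 := hinvert l₂ h2 h2E
      have e1 := hinvert l₁ h1 h1E
      calc l₁ * l₂ * (y : G) * (l₁ * l₂)⁻¹ = l₁ * (l₂ * (y : G) * l₂⁻¹) * l₁⁻¹ := by group
        _ = l₁ * (y : G)⁻¹ * l₁⁻¹ := by rw [e2]
        _ = (l₁ * (y : G) * l₁⁻¹)⁻¹ := by group
        _ = (y : G) := by rw [e1, inv_inv]
    apply hy2
    have : (y : G) = (y : G)⁻¹ := hb.symm.trans ha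
    calc (y : G) * (y : G) = (y : G) * (y : G)⁻¹ := by rw [← this]
      _ = 1 := mul_inv_cancel _
  by_cases hLE : ∀ l ∈ L, l ∈ E
  · have : L ≤ E := hLE
    have := Subgroup.card_le_of_le this
    omega
  · push Not at hLE
    obtain ⟨l₁, h1, h1E⟩ := hLE
    -- inject `L` into `Bool × E`
    have hcard : Nat.card L ≤ Nat.card (Bool × E) := by
      apply Nat.card_le_card_of_injective
        (fun l : L => if h : (l : G) ∈ E then ((false, ⟨l, h⟩) : Bool × E)
          else (true, ⟨l₁ * l, hprod l₁ h1 h1E l l.2 h⟩))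
      intro a b hab
      by_cases ha : (a : G) ∈ E <;> by_cases hb : (b : G) ∈ E
      · simp only [ha, hb, dif_pos, Prod.mk.injEq, Subtype.mk.injEq, true_and] at hab
        exact Subtype.ext hab
      · simp [ha, hb] at hab
      · simp [ha, hb] at hab
      · simp only [ha, hb, dif_neg, not_false_eq_true, Prod.mk.injEq, Subtype.mk.injEq,
          true_and] at hab
        exact Subtype.ext (mul_left_cancel hab)
    rw [Nat.card_prod, Nat.card_eq_fintype_card (α := Bool), Fintype.card_bool] at hcard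
    exact hcard

end Cfsg.Agent.Helper17.BrPG
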