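import Cfsg.Agent.Helper77.Br43.PGDefs
import Cfsg.Agent.Helper5.BrPG.W2
import Cfsg.Agent.Helper59.BrPG.W3

/-!
# Theorem PG (S0996), package W15: from the rank to two-point stabilizers (PG9).
-/

set_option autoImplicit false

namespace Cfsg.Agent.Helper17.BrPG

open Cfsg.Agent.Helper77.BrPG

open scoped Pointwise

universe u

variable {G : Type u} [Group G] [Finite G] {p : ℕ} [Fact p.Prime]

/-- the fibre of `g ↦ g • P` over `Q'` has `|N_G(P)|` elements -/
theorem card_fibre_smul (P Q' : Sylow p G) :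
    Nat.card {g : G // g • P = Q'} = Nat.card (Nz P) := by
  obtain ⟨g₀, hg₀⟩ := MulAction.exists_smul_eq G P Q'
  apply Nat.card_congr
  refine
    { toFun := fun g => ⟨g₀⁻¹ * g.1, ?_⟩
      invFun := fun h => ⟨g₀ * h.1, ?_⟩
      left_inv := fun g => by simp
      right_inv := fun h => by simp }
  · rw [Cfsg.Agent.Helper5.BrPG.mem_Nz_iff, mul_smul, g.2, ← hg₀, inv_smul_smul]
  · have := (Cfsg.Agent.Helper5.BrPG.mem_Nz_iff h.1 P).mp h.2
    rw [mul_smul, this, hg₀]

/-- (PG9) if `Σ_g |N ∩ g N g⁻¹| = (n + 1) |N|²` then all `|N ∩ N(Q)| = e` -/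
theorem card_Ez_of_sum (P : Sylow p G) (e n : ℕ) (hP : Nat.card P = p)
    (hcen : Subgroup.centralizer ((P : Subgroup G) : Set G) = (P : Subgroup G))
    (hN : Nat.card (Nz P) = p * e) (hS : Nat.card (Sylow p G) = 1 + n * p)
    (hsum : ∑ᶠ g : G, Nat.card ↥(Nz P ⊓ MulAut.conj g • Nz P) = (n + 1) * (p * e) ^ 2)
    (Q : Sylow p G) (hQ : Q ≠ P) : Nat.card (Ez P Q) = e := by
  classical
  have : Fintype G := Fintype.ofFinite G
  have : Fintype (Sylow p G) := Fintype.ofFinite _
  have hp : p.Prime := Fact.out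
  have hppos : 0 < p := hp.pos
  have hepos : 0 < e := by
    rcases Nat.eq_zero_or_pos e with h | h
    · rw [h, mul_zero] at hN
      have : 0 < Nat.card (Nz P) := Nat.card_pos
      omega
    · exact h
  set F : Sylow p G → ℕ := fun Q' => Nat.card (Ez P Q') with hF
  -- Step A
  have hA : ∀ g : G, Nat.card ↥(Nz P ⊓ MulAut.conj g • Nz P) = F (g • P) := by
    intro g
    rw [hF]
    show _ = Nat.card ↥(Nz P ⊓ Nz (g • P))
    rw [Cfsg.Agent.Helper5.BrPG.Nz_smul]
  -- Step B
  have hB : ∑ g : G, F (g • P) = (p * e) * ∑ Q' : Sylow p G, F Q' := by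
    rw [← Finset.sum_fiberwise_of_maps_to (s := Finset.univ) (t := Finset.univ)
      (g := fun g : G => g • P) (fun _ _ => Finset.mem_univ _) (fun g => F (g • P))]
    rw [Finset.mul_sum]
    refine Finset.sum_congr rfl fun Q' _ => ?_
    have h1 : ∀ g ∈ Finset.univ.filter (fun g : G => g • P = Q'), F (g • P) = F Q' := by
      intro g hg
      rw [(Finset.mem_filter.mp hg).2]
    rw [Finset.sum_congr rfl h1, Finset.sum_const, smul_eq_mul]
    congr 1
    rw [← hN, ← card_fibre_smul P Q', Nat.card_eq_fintype_card, Fintype.card_subtype]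
  -- Step C
  have hC : F P = p * e := by
    rw [hF]
    show Nat.card ↥(Nz P ⊓ Nz P) = p * e
    rw [inf_idem, hN]
  -- Step D
  have hD : ∀ Q' : Sylow p G, Q' ≠ P → F Q' ≤ e := by
    intro Q' hQ'
    have h1 := Cfsg.Agent.Helper59.BrPG.isCyclic_of_inf_eq_bot P hP hcen e hN (Ez P Q') inf_le_left
      (Cfsg.Agent.Helper5.BrPG.Ez_inf_eq_bot P hP Q' hQ')
    exact Nat.le_of_dvd hepos h1.2
  -- the sum
  have hsum' : ∑ Q' : Sylow p G, F Q' = (n + 1) * (p * e) := by
    rw [finsum_eq_sum_of_fintype] at hsum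
    rw [Finset.sum_congr rfl (fun g _ => hA g), hB] at hsum
    have hpe : 0 < p * e := Nat.mul_pos hppos hepos
    have : (p * e) * ∑ Q' : Sylow p G, F Q' = (p * e) * ((n + 1) * (p * e)) := by
      rw [hsum]; ring
    exact Nat.eq_of_mul_eq_mul_left hpe this
  -- split off `P`
  have hsplit : ∑ Q' : Sylow p G, F Q' = F P + ∑ Q' ∈ Finset.univ.erase P, F Q' := by
    rw [Finset.add_sum_erase _ _ (Finset.mem_univ P)]
  have hcardE : (Finset.univ.erase P : Finset (Sylow p G)).card = n * p := by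
    rw [Finset.card_erase_of_mem (Finset.mem_univ P), Finset.card_univ, ← Nat.card_eq_fintype_card,
      hS]
    omega
  have hrest : ∑ Q' ∈ Finset.univ.erase P, F Q' = n * p * e := by
    rw [hsplit, hC] at hsum'
    have : (n + 1) * (p * e) = p * e + n * p * e := by ring
    omega
  -- each term is `≤ e`, the sum is `(n p) e`: all are equal to `e`
  by_contra hne
  have hlt : F Q < e := lt_of_le_of_ne (hD Q hQ) hne
  have hQmem : Q ∈ Finset.univ.erase P := Finset.mem_erase.mpr ⟨hQ, Finset.mem_univ Q⟩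
  have hstrict : ∑ Q' ∈ Finset.univ.erase P, F Q' < ∑ _Q' ∈ Finset.univ.erase P, e := by
    apply Finset.sum_lt_sum
    · intro Q' hQ'
      exact hD Q' (Finset.mem_erase.mp hQ').1
    · exact ⟨Q, hQmem, hlt⟩
  rw [Finset.sum_const, hcardE, smul_eq_mul, hrest] at hstrict
  exact lt_irrefl _ hstrict

end Cfsg.Agent.Helper17.BrPG
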