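import Cfsg.Agent.Helper77.Br43.PGDefs

/-!
# Theorem PG (S0996), package W6: all complements of `P` in `N_G(P)` are conjugate under `P` (PG3e).
-/

set_option autoImplicit false

namespace Cfsg.Agent.Helper17.BrPG

open Cfsg.Agent.Helper77.BrPG

open scoped Pointwise

universe u

variable {G : Type u} [Group G] [Finite G] {p : ℕ} [Fact p.Prime]

omit [Finite G] in
/-- an element commuting with a non-identity element of `P` lies in `P` (`C_G(P) = P`, `|P| = p`). -/
theorem IsBr.mem_of_commute_of_mem {P : Sylow p G} {e n : ℕ} (h : IsBr P e n) (x : G)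
    (hx : x ∈ (P : Subgroup G)) (hx1 : x ≠ 1) (w : G) (hc : w * x = x * w) :
    w ∈ (P : Subgroup G) := by
  have hcard : Nat.card (P : Subgroup G) = p := h.cardP
  have hgen : Subgroup.zpowers (⟨x, hx⟩ : (P : Subgroup G)) = ⊤ :=
    zpowers_eq_top_of_prime_card (p := p) hcard (by
      intro h1
      exact hx1 (congrArg Subtype.val h1))
  rw [← h.cen, Subgroup.mem_centralizer_iff]
  intro y hy
  have hy' : (⟨y, hy⟩ : (P : Subgroup G)) ∈ Subgroup.zpowers (⟨x, hx⟩ : (P : Subgroup G)) := by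
    rw [hgen]; exact Subgroup.mem_top _
  obtain ⟨k, hk⟩ := Subgroup.mem_zpowers_iff.mp hy'
  have hyk : y = x ^ k := by
    have := congrArg Subtype.val hk
    simpa using this.symm
  rw [hyk]
  exact ((Commute.zpow_right (show Commute w x from hc) k).eq).symm

omit [Finite G] [Fact p.Prime] in
/-- elements of `P` commute. -/
theorem IsBr.comm_of_mem {P : Sylow p G} {e n : ℕ} (h : IsBr P e n) (x y : G)
    (hx : x ∈ (P : Subgroup G)) (hy : y ∈ (P : Subgroup G)) : x * y = y * x := by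
  have : y ∈ Subgroup.centralizer ((P : Subgroup G) : Set G) := by rw [h.cen]; exact hy
  exact Subgroup.mem_centralizer_iff.mp this x hx

/-- (PG3e), with (PG2d) as a hypothesis: all complements are conjugate under `P` -/
theorem IsBr.exists_conj_eq' {P : Sylow p G} {e n : ℕ} (h : IsBr P e n)
    (h2d : ∀ H : Subgroup G, H ≤ Nz P → H ⊓ (P : Subgroup G) = ⊥ → IsCyclic H ∧ Nat.card H ∣ e)
    (H H' : Subgroup G)
    (hH : H ≤ Nz P) (hHP : H ⊓ (P : Subgroup G) = ⊥) (hcard : Nat.card H = e)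
    (hH' : H' ≤ Nz P) (hHP' : H' ⊓ (P : Subgroup G) = ⊥) (hcard' : Nat.card H' = e) :
    ∃ x ∈ (P : Subgroup G), H' = MulAut.conj x • H := by
  classical
  have hPN : (P : Subgroup G) ≤ Nz P := Subgroup.le_normalizer
  obtain ⟨hcyc, -⟩ := h2d H hH hHP
  obtain ⟨w, hw⟩ := hcyc.exists_generator
  have hwH : (w : G) ∈ H := w.2
  have hwN : (w : G) ∈ Nz P := hH hwH
  -- `w ≠ 1` and `w ∉ P`
  have hw1 : (w : G) ≠ 1 := by
    intro h1
    have hone : w = 1 := Subtype.ext h1
    have hord : orderOf w = Nat.card H := orderOf_eq_card_of_forall_mem_zpowers hw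
    rw [hone, orderOf_one, hcard] at hord
    have := h.he
    omega
  have hwP : (w : G) ∉ (P : Subgroup G) := by
    intro hp'
    have : (w : G) ∈ H ⊓ (P : Subgroup G) := ⟨hwH, hp'⟩
    rw [hHP, Subgroup.mem_bot] at this
    exact hw1 this
  -- conjugation by `w` preserves `P`
  have hconj : ∀ y ∈ (P : Subgroup G), (w : G)⁻¹ * y * (w : G) ∈ (P : Subgroup G) := by
    intro y hy
    have hinv : (w : G)⁻¹ ∈ Nz P := (Nz P).inv_mem hwN
    have := (Subgroup.mem_normalizer_iff.mp hinv y).mp hy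
    simpa using this
  -- `N = P H'`: the map `P × H' → N` is injective, hence surjective
  have hsurj : ∃ x ∈ (P : Subgroup G), ∃ h' ∈ H', (w : G) = x * h' := by
    let f : ↥(P : Subgroup G) × ↥H' → ↥(Nz P) := fun z => ⟨(z.1 : G) * (z.2 : G),
      (Nz P).mul_mem (hPN z.1.2) (hH' z.2.2)⟩
    have hf : Function.Injective f := by
      intro a b hab
      have hab' : (a.1 : G) * (a.2 : G) = (b.1 : G) * (b.2 : G) := congrArg Subtype.val hab
      have hmem : (b.1 : G)⁻¹ * (a.1 : G) ∈ H' ⊓ (P : Subgroup G) := by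
        refine ⟨?_, (P : Subgroup G).mul_mem ((P : Subgroup G).inv_mem b.1.2) a.1.2⟩
        have : (b.1 : G)⁻¹ * (a.1 : G) = (b.2 : G) * (a.2 : G)⁻¹ := by
          have h1 : (a.1 : G) = (b.1 : G) * (b.2 : G) * (a.2 : G)⁻¹ := by
            rw [← hab']; group
          rw [h1]; group
        rw [this]
        exact H'.mul_mem b.2.2 (H'.inv_mem a.2.2)
      rw [hHP', Subgroup.mem_bot] at hmem
      have h1 : (a.1 : G) = (b.1 : G) := by
        have := congrArg (fun z => (b.1 : G) * z) hmem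
        simpa using this
      have h2 : (a.2 : G) = (b.2 : G) := by
        rw [h1] at hab'
        exact mul_left_cancel hab'
      exact Prod.ext (Subtype.ext h1) (Subtype.ext h2)
    have hcardeq : Nat.card (↥(P : Subgroup G) × ↥H') = Nat.card ↥(Nz P) := by
      rw [Nat.card_prod, h.cardN, hcard']
      have : Nat.card (P : Subgroup G) = p := h.cardP
      rw [this]
    have hbij : Function.Bijective f :=
      (Nat.bijective_iff_injective_and_card f).mpr ⟨hf, hcardeq⟩
    obtain ⟨z, hz⟩ := hbij.2 ⟨w, hwN⟩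
    exact ⟨z.1, z.1.2, z.2, z.2.2, (congrArg Subtype.val hz).symm⟩
  obtain ⟨x, hxP, h', hh', hwx⟩ := hsurj
  -- `h' = w x₀` with `x₀ ∈ P`
  set x₀ : G := (w : G)⁻¹ * x⁻¹ * (w : G) with hx₀
  have hx₀P : x₀ ∈ (P : Subgroup G) := hconj x⁻¹ ((P : Subgroup G).inv_mem hxP)
  have hh'eq : h' = (w : G) * x₀ := by
    rw [hx₀, hwx]; group
  -- the map `y ↦ (w⁻¹ y w) y⁻¹` on `P` is injective, hence surjective
  let φ : ↥(P : Subgroup G) → ↥(P : Subgroup G) := fun y =>
    ⟨(w : G)⁻¹ * (y : G) * (w : G) * (y : G)⁻¹,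
      (P : Subgroup G).mul_mem (hconj y y.2) ((P : Subgroup G).inv_mem y.2)⟩
  have hφ : Function.Injective φ := by
    intro y₁ y₂ hy
    have hy' : (w : G)⁻¹ * (y₁ : G) * (w : G) * (y₁ : G)⁻¹ =
        (w : G)⁻¹ * (y₂ : G) * (w : G) * (y₂ : G)⁻¹ := congrArg Subtype.val hy
    -- u := y₂⁻¹ y₁ commutes with w
    set u : G := (y₂ : G)⁻¹ * (y₁ : G) with hu
    have huP : u ∈ (P : Subgroup G) := (P : Subgroup G).mul_mem ((P : Subgroup G).inv_mem y₂.2) y₁.2
    have hA₁ := hconj y₁ y₁.2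
    have hA₂ := hconj y₂ y₂.2
    have hcomm : (w : G)⁻¹ * u * (w : G) = u := by
      have e2 : (w : G)⁻¹ * (y₁ : G) * (w : G) =
          (w : G)⁻¹ * (y₂ : G) * (w : G) * (y₂ : G)⁻¹ * (y₁ : G) := by
        have := congrArg (fun z => z * (y₁ : G)) hy'
        simpa [mul_assoc] using this
      have e1 : (w : G)⁻¹ * u * (w : G) =
          ((w : G)⁻¹ * (y₂ : G) * (w : G))⁻¹ * ((w : G)⁻¹ * (y₁ : G) * (w : G)) := by
        rw [hu]; group
      rw [e1, e2, hu]
      group
    have hwu : (w : G) * u = u * (w : G) := by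
      have := congrArg (fun z => (w : G) * z) hcomm
      simp only [mul_assoc, mul_inv_cancel_left] at this
      exact this.symm
    have hu1 : u = 1 := by
      by_contra hne
      exact hwP (IsBr.mem_of_commute_of_mem h u huP hne w hwu)
    apply Subtype.ext
    have := congrArg (fun z => (y₂ : G) * z) hu1
    simpa [hu] using this
  have hφs : Function.Surjective φ := Finite.injective_iff_surjective.mp hφ
  obtain ⟨y, hy⟩ := hφs ⟨x₀, hx₀P⟩
  have hyeq : (w : G)⁻¹ * (y : G) * (w : G) * (y : G)⁻¹ = x₀ := congrArg Subtype.val hy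
  refine ⟨y, y.2, ?_⟩
  -- `y w y⁻¹ = w x₀ = h' ∈ H'`
  have hywy : (y : G) * (w : G) * (y : G)⁻¹ = h' := by
    rw [hh'eq, ← hyeq]; group
  have hle : MulAut.conj (y : G) • H ≤ H' := by
    intro g hg
    rw [Subgroup.mem_pointwise_smul_iff_inv_smul_mem] at hg
    have hg' : (y : G)⁻¹ * g * (y : G) ∈ H := by
      simpa [MulAut.smul_def, MulAut.conj_apply] using hg
    have hmem : (⟨(y : G)⁻¹ * g * (y : G), hg'⟩ : H) ∈ Subgroup.zpowers w := hw _
    obtain ⟨k, hk⟩ := Subgroup.mem_zpowers_iff.mp hmem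
    have hk' : (w : G) ^ k = (y : G)⁻¹ * g * (y : G) := by
      have := congrArg Subtype.val hk
      simpa using this
    have hg2 : g = ((y : G) * (w : G) * (y : G)⁻¹) ^ k := by
      rw [conj_zpow, hk']; group
    rw [hg2, hywy]
    exact H'.zpow_mem hh' k
  have hcardle : Nat.card H' ≤ Nat.card (MulAut.conj (y : G) • H : Subgroup G) := by
    rw [← Nat.card_congr (Subgroup.equivSMul (MulAut.conj (y : G)) H).toEquiv, hcard, hcard']
  exact (Subgroup.eq_of_le_of_card_ge hle hcardle).symm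

end Cfsg.Agent.Helper17.BrPG
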