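import Cfsg.Agent.Helper17.BrPG.W6
import Cfsg.Agent.Helper59.BrPG.W3

/-!
# Theorem PG (S0996), package W6: (PG3e) with the exact skeleton statement.
-/

set_option autoImplicit false

namespace Cfsg.Agent.Helper17.BrPG

open Cfsg.Agent.Helper77.BrPG

open scoped Pointwise

universe u

variable {G : Type u} [Group G] [Finite G] {p : ℕ} [Fact p.Prime]

/-- (PG3e) all complements are conjugate under `P` -/
theorem IsBr.exists_conj_eq {P : Sylow p G} {e n : ℕ} (h : IsBr P e n) (H H' : Subgroup G)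
    (hH : H ≤ Nz P) (hHP : H ⊓ (P : Subgroup G) = ⊥) (hcard : Nat.card H = e)
    (hH' : H' ≤ Nz P) (hHP' : H' ⊓ (P : Subgroup G) = ⊥) (hcard' : Nat.card H' = e) :
    ∃ x ∈ (P : Subgroup G), H' = MulAut.conj x • H :=
  IsBr.exists_conj_eq' h
    (fun K hK hKP =>
      Cfsg.Agent.Helper59.BrPG.isCyclic_of_inf_eq_bot P h.cardP h.cen e h.cardN K hK hKP)
    H H' hH hHP hcard hH' hHP' hcard'

end Cfsg.Agent.Helper17.BrPG
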